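import Cfsg.Agent.Lib.Cert.S62.Tw
import Cfsg.Agent.Lib.Cert.Lin

set_option autoImplicit false
set_option maxRecDepth 100000

namespace Cfsg.Agent.Ct.S62

open Cfsg.Agent.PC

open Cfsg.Agent.Fi Cfsg.Agent.Ct
def Tf_t : TN := (TN.leaf (nat_lit 0x3e2c82bae78dd9a34cf26dfb62bc469173526694386e8cec1e769c6bd903424c6547a983e05ccf7b9fc49406c91614015df1aea0e14342d214a50164e8284655b67631923733e5f0fd89beea991be9deec974093b620bb0f3071beaded41c3e56a63ae541b1c12707db522c9ee7bc99bb6902390312066b6b3a1d7fb597f782b424b30e08f41346fcb716188d06579b13b779e37bb59733cbc10d9820eaa9a279b492366169ffba73d822b57195093491bf2acd331289b07585f0350103e86a8bae77e30c729b4d7624a9d36bc71bb739502fbf6065d7a9a2b7c35d6106b072243ce34c8eebd1494155602040fbb9fdeb9df8d76ca6d30c518ea91ab5c67cce5b2e86281b75ea5fae85575981901ef4cf38d30a2c82525050c408103ef6aefae72d30c777b8d7626e9ec73c69bb5d9648e28606739aba297d85d65474c62103ce34c2cabd15121440c2040))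
noncomputable def Tf (i : ℕ) : ℕ := get9 Tf_t (nat_lit 6) (nat_lit 63) i
noncomputable def T (j c : ℕ) : ℕ := Tf (Nat.add (Nat.mul j (nat_lit 63)) c)
noncomputable def p0 : ℕ → ℕ := permE T (fun j => j) (nat_lit 63) (nat_lit 7)
theorem pp0 : Nat.beq (rng p0 (nat_lit 0) (nat_lit 63)) (nat_lit 0) = true := by decide +kernel
theorem hp : ∀ i < 63, p0 i = 0 := by
  have h := zero_lt_zero p0
  have h := zero_lt_add (a := (nat_lit 0)) (n := (nat_lit 63)) (b := (nat_lit 63)) h pp0 rfl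
  exact h
abbrev pt : ℕ → Fin 63 := (finLab 62).pt
noncomputable def pf : ℕ → Equiv.Perm (Fin 63) := (finLab 62).fam T (fun j => j)
theorem pr : Reps pt 63 pf T 7 ∧ InvOK pf (fun j => j) 7 := (finLab 62).reps_fam (by decide +kernel) hp
noncomputable def x1 : ℕ → ℕ := relF T rels
theorem yy0 : Nat.beq (rng x1 (nat_lit 0) (nat_lit 63)) (nat_lit 0) = true := by decide +kernel
theorem hy : ∀ i < 63, x1 i = 0 := by
  have h := zero_lt_zero x1
  have h := zero_lt_add (a := (nat_lit 0)) (n := (nat_lit 63)) (b := (nat_lit 63)) h yy0 rfl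
  exact h
theorem rl0 : ∀ w ∈ rels, ev pf w = 1 := rel_of_tab (finLab 62).surj pr.1 (by decide +kernel) hy
abbrev P : Type := ↥(gen pf 7)
noncomputable def al : ℕ → P := PC.sub (gen pf 7) pf
theorem rp : Reps pt 63 al T 7 := (pr.1.mono (by decide)).sub le_rfl
theorem top : gen al 7 = ⊤ := gen_sub_top rfl
def W0_t : TL := (TL.node (TL.node (TL.node (TL.leaf [nat_lit 5, nat_lit 1, nat_lit 3, nat_lit 0, nat_lit 3, nat_lit 1, nat_lit 5]) (TL.leaf [nat_lit 1, nat_lit 4, nat_lit 3, nat_lit 4, nat_lit 1, nat_lit 5, nat_lit 6, nat_lit 5, nat_lit 1, nat_lit 3, nat_lit 4, nat_lit 5, nat_lit 3, nat_lit 4])) (TL.node (TL.leaf [nat_lit 5, nat_lit 1, nat_lit 3, nat_lit 0, nat_lit 3, nat_lit 1, nat_lit 5, nat_lit 6, nat_lit 5, nat_lit 3, nat_lit 5, nat_lit 6, nat_lit 1, nat_lit 3, nat_lit 5, nat_lit 4, nat_lit 3, nat_lit 4, nat_lit 5, nat_lit 3, nat_lit 1, nat_lit 6, nat_lit 5, nat_lit 3, nat_lit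 5, nat_lit 6]) (TL.leaf [nat_lit 1, nat_lit 3, nat_lit 5, nat_lit 4, nat_lit 3, nat_lit 4, nat_lit 5, nat_lit 3, nat_lit 5, nat_lit 4, nat_lit 6, nat_lit 5, nat_lit 0, nat_lit 3, nat_lit 4, nat_lit 6, nat_lit 5]))) (TL.node (TL.node (TL.leaf [nat_lit 6, nat_lit 3, nat_lit 5, nat_lit 4, nat_lit 3, nat_lit 4, nat_lit 5, nat_lit 3, nat_lit 6]) (TL.leaf [nat_lit 6, nat_lit 5, nat_lit 3, nat_lit 5, nat_lit 6, nat_lit 1, nat_lit 0, nat_lit 3, nat_lit 0, nat_lit 5, nat_lit 3, nat_lit 4, nat_lit 5, nat_lit 6, nat_lit 5, nat_lit 1, nat_lit 3, nat_lit 1, nat_lit 5, nat_lit 6])) (TL.leaf [nat_lit 1, nat_lit 3, nat_lit 5, nat_lit 4, nat_lit 3, nat_lit 4, nat_lit 5, nat_lit 3, nat_lit 4, nat_lit 3, nat_lit 4, nat_lit 6, nat_lit 5, nat_lit 3, nat_lit 5, nat_lit 4, nat_lit 5, nat_lit 1, nat_lit 6, nat_lit 4, nat_lit 3, nat_lit 2, nat_lit 4, nat_lit 3, nat_lit 0])))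
noncomputable def W0 (i : ℕ) : List ℕ := TL.get W0_t i
def Q0f_t : TN := (TN.leaf (nat_lit 0x2f6fd5c4e0861c677a3936e915c45f07cc904a8f6d0ba540c2680f90c8fb0caa188e9527e0b6b47a7671b0d5e4e6ed6c1c55387843c8be5bbaf6caee917661e85c1d6c2f136a8e9df92a732449420339b10f96d7e06b4f5e66f1801496330a4469cc28958369ee480e1a4c4b5e6308cdcaff0895467742874fec1e8b5fe3891dbf5f731b3414ae56986acc0e1ab5edeb1b2cf8a3da632ee9fd18cd582b591dc587d128e35f1d979b70499094a9071320d5ca269fb2c4e927187043bda034f4dc358b1df6ebe6e1e3b14c429adab259e6a167b9ca02a33d7cea6477243894c146d755f2e2df504606bc80c2480c3df34eb18b7db5eeecb9fafcd7b2b5a9a279a56a3e2180f78a40c91962da9455311171f24d6cb74e04718548308803ef69ee18b1df6cb46f5e301ccb4dadaf1e9e68d6979ea07e875ccea6455e43894d24503d5b2e2ca508bc66040c2040))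
noncomputable def Q0f (i : ℕ) : ℕ := get9 Q0f_t (nat_lit 6) (nat_lit 63) i
noncomputable def Q0 (j c : ℕ) : ℕ := Q0f (Nat.add (Nat.mul j (nat_lit 63)) c)
noncomputable def q0 (j : ℕ) : P := ev al (W0 j)
noncomputable def c0 : ℕ → ℕ := tabE T Q0 W0 (nat_lit 7)
theorem cc0 : Nat.beq (rng c0 (nat_lit 0) (nat_lit 63)) (nat_lit 0) = true := by decide +kernel
theorem hc : ∀ i < 63, c0 i = 0 := by
  have h := zero_lt_zero c0
  have h := zero_lt_add (a := (nat_lit 0)) (n := (nat_lit 63)) (b := (nat_lit 63)) h cc0 rfl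
  exact h
def CV0_t : TN := (TN.leaf (nat_lit 0x1eba3766a247ad921965ba24248de7158a36dc963a267649a69aa958b529997a1521aeea6082672eb623814dd79d725))
noncomputable def CV0 (i : ℕ) : ℕ := get9 CV0_t (nat_lit 6) (nat_lit 63) i
def CV1_t : TN := (TN.leaf (nat_lit 0x9550007547650000006000004e000062500070095c01b86389b0000006c035100095a750680023640000000040000))
noncomputable def CV1 (i : ℕ) : ℕ := get9 CV1_t (nat_lit 6) (nat_lit 63) i
def CV2_t : TN := (TN.leaf (nat_lit 0x1b00000040000c0008c000090000051b00000048000000000091c0000009000000000004c00006c080001c001))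
noncomputable def CV2 (i : ℕ) : ℕ := get9 CV2_t (nat_lit 6) (nat_lit 63) i
def CV3_t : TN := (TN.leaf (nat_lit 0x9800000000d800000000000000000b000000000000000000009020000400))
noncomputable def CV3 (i : ℕ) : ℕ := get9 CV3_t (nat_lit 5) (nat_lit 31) i
def CV4_t : TN := (TN.leaf (nat_lit 0x280000000000090001200020))
noncomputable def CV4 (i : ℕ) : ℕ := get9 CV4_t (nat_lit 5) (nat_lit 31) i
def CV5_t : TN := (TN.leaf (nat_lit 0x8000000000000000000100000))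
noncomputable def CV5 (i : ℕ) : ℕ := get9 CV5_t (nat_lit 4) (nat_lit 15) i
noncomputable def l0 : Lev := ⟨(nat_lit 6), (nat_lit 63), (nat_lit 6), CV0⟩
noncomputable def lt : List Lev := [⟨(nat_lit 3), (nat_lit 30), (nat_lit 5), CV1⟩, ⟨(nat_lit 0), (nat_lit 16), (nat_lit 4), CV2⟩, ⟨(nat_lit 2), (nat_lit 6), (nat_lit 3), CV3⟩, ⟨(nat_lit 1), (nat_lit 4), (nat_lit 1), CV4⟩, ⟨(nat_lit 5), (nat_lit 2), (nat_lit 0), CV5⟩]
theorem ch : Ch pt 63 q0 Q0 7 8 (l0 :: lt) :=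
  ⟨(finLab 62).inj, reps_tabs (rp) (by decide +kernel) hc, by decide +kernel, cardLE_sub (ub7 pr.2 rl0)⟩
def SO_t : TN := (TN.leaf (nat_lit 0x3afaaffbfafafbaeaaffbafaabebdfbf))
noncomputable def SO (i : ℕ) : ℕ := get9 SO_t (nat_lit 2) (nat_lit 3) i
def SV_t : TN := (TN.leaf (nat_lit 0x1995569b75476542490c61549c4e071c6254dc71b95c49b86389b7639506e535191995a7506a052365a68135505d841))
noncomputable def SV (i : ℕ) : ℕ := get9 SV_t (nat_lit 6) (nat_lit 63) i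
def rt (i : ℕ) : ℕ := Nat.land (Nat.shiftRight (nat_lit 240) (Nat.mul (nat_lit 3) i)) (nat_lit 7)
def sz (i : ℕ) : ℕ := Nat.land (Nat.shiftRight (nat_lit 0x81e040) (Nat.mul (nat_lit 6) i)) (nat_lit 63)
noncomputable def s0 : ℕ → ℕ := soE Q0 (nat_lit 6) (nat_lit 63) (nat_lit 8) (nat_lit 3) SV SO rt
theorem ss0 : Nat.beq (rng s0 (nat_lit 0) (nat_lit 63)) (nat_lit 0) = true := by decide +kernel
theorem hs : ∀ i < 63, s0 i = 0 := by
  have h := zero_lt_zero s0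
  have h := zero_lt_add (a := (nat_lit 0)) (n := (nat_lit 63)) (b := (nat_lit 63)) h ss0 rfl
  exact h
theorem hsz : ∀ i ≤ 3, 1 ≤ i → cnt SO i 63 = sz i := by decide +kernel
theorem coatom : IsCoatom (MulAction.stabilizer P (pt 6)) :=
  ch.coatom (by decide +kernel) hs sz hsz (k0 := 1) (by decide +kernel) (by decide +kernel)
def B0 : List ℕ := [nat_lit 6, nat_lit 3, nat_lit 0, nat_lit 2, nat_lit 1, nat_lit 5]
theorem md0 : Md pt 63 B0 al T 7 := ch.md (rp) rfl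
theorem card : Nat.card P = 1451520 := ch.card
instance : Finite P := ch.fin
def W1_t : TL := (TL.node (TL.node (TL.node (TL.node (TL.leaf [nat_lit 0]) (TL.leaf [nat_lit 5, nat_lit 3, nat_lit 1, nat_lit 3, nat_lit 5, nat_lit 6, nat_lit 1, nat_lit 5, nat_lit 3, nat_lit 5, nat_lit 3, nat_lit 0, nat_lit 1, nat_lit 6, nat_lit 3, nat_lit 0, nat_lit 5])) (TL.leaf [nat_lit 4])) (TL.node (TL.leaf [nat_lit 2]) (TL.leaf [nat_lit 6]))) (TL.node (TL.node (TL.leaf [nat_lit 1]) (TL.leaf [nat_lit 5])) (TL.node (TL.leaf [nat_lit 3]) (TL.leaf [nat_lit 5, nat_lit 3, nat_lit 1, nat_lit 3, nat_lit 5, nat_lit 6, nat_lit 1, nat_lit 5, nat_lit 3, nat_lit 4, nat_lit 5, nat_lit 3, nat_lit 5, nat_lit 4, nat_lit 5, nat_lit 6, nat_lit 5, nat_lit 0, nat_lit 6, nat_lit 5, nat_lit 1, nat_lit 4]))))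
noncomputable def W1 (i : ℕ) : List ℕ := TL.get W1_t i
def Q1f_t : TN := (TN.node (TN.leaf (nat_lit 0x6a94d998a5e09349bc14a6f2e41b671a34daab095624fea94be1376547aee28f506205f5461ec255d88bc73b077f6bcd02b0cc7083be2c82bae78dd9a34cf26dfb62bc469173526694386e8cec1e769c6bd903424c6547a983e05ccf7b9fc49406c91614015df1aea0e14342d214a50164e8284655b67631923733e5f0fd89beea991be9deec974093b620bb0f3071beaded41c3e56a63ae541b1c12707db522c9ee7bc99bb6902390312066b6b3a1d7fb597f782b424b30e08f41346fcb716188d06579b13b779e37bb59733cbc10d9820eaa9a279b492366169ffba73d822b57195093491bf2acd331289b07585f0350103e86a8bae77e30c729b4d7624a9d36bc71bb739502fbf6065d7a9a2b7c35d6106b072243ce34c8eebd1494155602040fbb9fdeb9df8d76ca6d30c518ea91ab5c67cce5b2e86281b75ea5fae85575981901ef4cf38d30a2c82525050c408103ef6aefae72d30c777b8d7626e9ec73c69bb5d9648e28606739aba297d85d65474c62103ce34c2cabd15121440c2040)) (TN.leaf (nat_lit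 0x3d22c4beef2c453b81f55588f759c78dcf990906dd8645086f52889be9d3c07eaafcba70c22c4c3494c)))
noncomputable def Q1f (i : ℕ) : ℕ := get9 Q1f_t (nat_lit 6) (nat_lit 63) i
noncomputable def Q1 (j c : ℕ) : ℕ := Q1f (Nat.add (Nat.mul j (nat_lit 63)) c)
def V1_t : TL := (TL.node (TL.node (TL.node (TL.leaf [nat_lit 7, nat_lit 7, nat_lit 7, nat_lit 7, nat_lit 7, nat_lit 7, nat_lit 8, nat_lit 7, nat_lit 8, nat_lit 8, nat_lit 7, nat_lit 7, nat_lit 7, nat_lit 7, nat_lit 7, nat_lit 7, nat_lit 8, nat_lit 8, nat_lit 8, nat_lit 8, nat_lit 8, nat_lit 8, nat_lit 8, nat_lit 8, nat_lit 8, nat_lit 8, nat_lit 8, nat_lit 8, nat_lit 8, nat_lit 8, nat_lit 8, nat_lit 8, nat_lit 8, nat_lit 8, nat_lit 7, nat_lit 8, nat_lit 8, nat_lit 8, nat_lit 8, nat_lit 8, nat_lit 8, nat_lit 8, nat_lit 8, nat_lit 8, nat_lit 8, nat_lit 8, nat_lit 8, nat_lit 7, nat_lit 7, nat_lit 7, nat_lit 7, nat_lit 7, nat_lit 7, nat_lit 8,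 nat_lit 8, nat_lit 8, nat_lit 8, nat_lit 8, nat_lit 8, nat_lit 8, nat_lit 8, nat_lit 8, nat_lit 8, nat_lit 8, nat_lit 8, nat_lit 7, nat_lit 7, nat_lit 8, nat_lit 8, nat_lit 8, nat_lit 7, nat_lit 7, nat_lit 7, nat_lit 7, nat_lit 7, nat_lit 7, nat_lit 8, nat_lit 8, nat_lit 8, nat_lit 8, nat_lit 8, nat_lit 8, nat_lit 7, nat_lit 7, nat_lit 7, nat_lit 7, nat_lit 7, nat_lit 7, nat_lit 7, nat_lit 7, nat_lit 7, nat_lit 7, nat_lit 7, nat_lit 7, nat_lit 8, nat_lit 8, nat_lit 8, nat_lit 8, nat_lit 8, nat_lit 8, nat_lit 7, nat_lit 7, nat_lit 7, nat_lit 7, nat_lit 7, nat_lit 7]) (TL.leaf [nat_lit 8, nat_lit 7, nat_lit 7, nat_lit 7, nat_lit 7, nat_lit 7, nat_lit 7, nat_lit 8, nat_lit 7, nat_lit 7, nat_lit 7, nat_lit 7, nat_lit 7, nat_lit 7, nat_lit 8, nat_lit 8, nat_lit 7, nat_lit 8, nat_lit 7])) (TL.node (TL.leaf [nat_lit 7, nat_lit 8, nat_lit 8, nat_lit 7, nat_lit 8, nat_lit 7, nat_lit 8,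 nat_lit 8, nat_lit 7, nat_lit 8, nat_lit 8, nat_lit 7, nat_lit 7, nat_lit 7, nat_lit 7, nat_lit 7, nat_lit 7, nat_lit 8, nat_lit 8, nat_lit 8, nat_lit 8, nat_lit 8, nat_lit 8, nat_lit 7, nat_lit 8, nat_lit 7, nat_lit 7, nat_lit 8, nat_lit 8, nat_lit 7, nat_lit 8, nat_lit 7]) (TL.leaf [nat_lit 8, nat_lit 8, nat_lit 8, nat_lit 8, nat_lit 8, nat_lit 8, nat_lit 7, nat_lit 8, nat_lit 7, nat_lit 7, nat_lit 7, nat_lit 7, nat_lit 7, nat_lit 7, nat_lit 8, nat_lit 8, nat_lit 8, nat_lit 8, nat_lit 8, nat_lit 8, nat_lit 7, nat_lit 7, nat_lit 7, nat_lit 7, nat_lit 7, nat_lit 7, nat_lit 8, nat_lit 8, nat_lit 8, nat_lit 8, nat_lit 8, nat_lit 8, nat_lit 8, nat_lit 8, nat_lit 8, nat_lit 8, nat_lit 8, nat_lit 8, nat_lit 8, nat_lit 8, nat_lit 8, nat_lit 8, nat_lit 8, nat_lit 8, nat_lit 7, nat_lit 7, nat_lit 7, nat_lit 7, nat_lit 7, nat_lit 7, nat_lit 8, nat_lit 8, nat_lit 7, nat_lit 7, nat_lit 7,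 nat_lit 7, nat_lit 7, nat_lit 7, nat_lit 7, nat_lit 7, nat_lit 7, nat_lit 7, nat_lit 7, nat_lit 7, nat_lit 7, nat_lit 7, nat_lit 7, nat_lit 7, nat_lit 7, nat_lit 7, nat_lit 8, nat_lit 8, nat_lit 8, nat_lit 8, nat_lit 8, nat_lit 8, nat_lit 8, nat_lit 8, nat_lit 8, nat_lit 8, nat_lit 8, nat_lit 8, nat_lit 7, nat_lit 7, nat_lit 7, nat_lit 7, nat_lit 7, nat_lit 7]))) (TL.node (TL.node (TL.leaf [nat_lit 8, nat_lit 8, nat_lit 8, nat_lit 8, nat_lit 8, nat_lit 8, nat_lit 7, nat_lit 8, nat_lit 8, nat_lit 8, nat_lit 8, nat_lit 8, nat_lit 8, nat_lit 7, nat_lit 8, nat_lit 8, nat_lit 8, nat_lit 8, nat_lit 8, nat_lit 8, nat_lit 7, nat_lit 7, nat_lit 7, nat_lit 7, nat_lit 7, nat_lit 7, nat_lit 8, nat_lit 7, nat_lit 7, nat_lit 7, nat_lit 7, nat_lit 7, nat_lit 7, nat_lit 8, nat_lit 8, nat_lit 8, nat_lit 8, nat_lit 8, nat_lit 8, nat_lit 7, nat_lit 8, nat_lit 8, nat_lit 8, nat_lit 8, nat_lit 8,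 nat_lit 8, nat_lit 7, nat_lit 7, nat_lit 7, nat_lit 7, nat_lit 7, nat_lit 7, nat_lit 8, nat_lit 8, nat_lit 8, nat_lit 8, nat_lit 8, nat_lit 8, nat_lit 8, nat_lit 8, nat_lit 8, nat_lit 8, nat_lit 8, nat_lit 8, nat_lit 7, nat_lit 7, nat_lit 7, nat_lit 7, nat_lit 7, nat_lit 7]) (TL.leaf [nat_lit 7, nat_lit 7, nat_lit 8, nat_lit 8, nat_lit 8, nat_lit 8, nat_lit 8, nat_lit 8, nat_lit 7, nat_lit 7, nat_lit 7, nat_lit 7, nat_lit 7, nat_lit 7, nat_lit 8, nat_lit 7, nat_lit 7, nat_lit 7, nat_lit 7, nat_lit 7, nat_lit 7, nat_lit 8, nat_lit 8, nat_lit 8, nat_lit 8, nat_lit 8, nat_lit 8, nat_lit 7, nat_lit 7, nat_lit 8, nat_lit 7, nat_lit 7, nat_lit 7, nat_lit 7, nat_lit 7, nat_lit 7, nat_lit 8, nat_lit 8, nat_lit 7, nat_lit 7, nat_lit 7, nat_lit 7, nat_lit 7, nat_lit 7, nat_lit 7, nat_lit 7, nat_lit 7, nat_lit 7, nat_lit 7, nat_lit 7, nat_lit 7, nat_lit 7, nat_lit 7, nat_lit 7, nat_lit 7,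 nat_lit 7, nat_lit 8, nat_lit 8, nat_lit 8, nat_lit 8, nat_lit 8, nat_lit 8, nat_lit 7, nat_lit 7, nat_lit 7, nat_lit 7, nat_lit 7, nat_lit 7, nat_lit 8, nat_lit 7])) (TL.leaf [nat_lit 8, nat_lit 7, nat_lit 7, nat_lit 8, nat_lit 8, nat_lit 8, nat_lit 8, nat_lit 8, nat_lit 8, nat_lit 7, nat_lit 7, nat_lit 7, nat_lit 7, nat_lit 7, nat_lit 7, nat_lit 8, nat_lit 8, nat_lit 8, nat_lit 8, nat_lit 8, nat_lit 8, nat_lit 7, nat_lit 8, nat_lit 8, nat_lit 8])))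
noncomputable def V1 (i : ℕ) : List ℕ := TL.get V1_t i
noncomputable def e1 : ℕ → ℕ := tabE T Q1 W1 (nat_lit 9)
theorem ee0 : Nat.beq (rng e1 (nat_lit 0) (nat_lit 63)) (nat_lit 0) = true := by decide +kernel
theorem he : ∀ i < 63, e1 i = 0 := by
  have h := zero_lt_zero e1
  have h := zero_lt_add (a := (nat_lit 0)) (n := (nat_lit 63)) (b := (nat_lit 63)) h ee0 rfl
  exact h
theorem md1 : Md pt 63 B0 (fun j => ev al (W1 j)) Q1 9 := md0.words (by decide +kernel) he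
instance simple : IsSimpleGroup P := ch.simple rfl coatom (p := 7) (md1.ord le_rfl (a := ([nat_lit 7], 7)) (by decide +kernel)).2.1
  (by decide +kernel) (md0.ncl (top) md1 (x := 7) (y := 8) [nat_lit 1, nat_lit 1, nat_lit 1, nat_lit 0, nat_lit 5, nat_lit 4] V1 (by decide +kernel))
theorem ctr : Subgroup.center P = ⊥ := ctr_bot card (by norm_num) (by decide)
theorem iv : InvOK al (fun j => j) 7 := pr.2.sub le_rfl
theorem rl : ∀ w ∈ rels, ev al w = 1 := rels_sub (by decide +kernel) rl0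
theorem ub : Ub (fun j => j) rels 7 (Nat.card P) := fun _ _ _ h1 h2 => card ▸ ub7 h1 h2

end Cfsg.Agent.Ct.S62
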